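import Cfsg.Prelude.Def_PLocal
import Mathlib.LinearAlgebra.Matrix.Notation
import Mathlib.Algebra.Field.ZMod
import Mathlib.GroupTheory.Commutator.Basic
import Mathlib.GroupTheory.PGroup
import Mathlib.Tactic.FieldSimp
import Mathlib.Tactic.Ring
import Mathlib.Tactic.LinearCombination

/-!
# An element model of `Cfsg.qd p`

`mk a b c d x y` is the affine map with linear part `!![a, b; c, d]` and translation part `(x, y)`.
-/

set_option autoImplicit false

namespace CfsgLib.Qd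

open Matrix
open scoped commutatorElement

variable {p : ℕ}

/-- The affine matrices. -/
def affine (p : ℕ) : Subgroup (Matrix.SpecialLinearGroup (Fin 3) (ZMod p)) where
  carrier := {M | (M : Matrix (Fin 3) (Fin 3) (ZMod p)) 2 0 = 0 ∧
    (M : Matrix (Fin 3) (Fin 3) (ZMod p)) 2 1 = 0 ∧ (M : Matrix (Fin 3) (Fin 3) (ZMod p)) 2 2 = 1}
  mul_mem' := by
    rintro A B ⟨a0, a1, a2⟩ ⟨b0, b1, b2⟩
    simp [Matrix.mul_apply, Fin.sum_univ_three, a0, a1, a2, b0, b1, b2]
  one_mem' := by simp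
  inv_mem' := by
    rintro A ⟨a0, a1, a2⟩
    have h : ∀ j, ((A * A⁻¹ : Matrix.SpecialLinearGroup (Fin 3) (ZMod p)) :
        Matrix (Fin 3) (Fin 3) (ZMod p)) 2 j =
        (A⁻¹ : Matrix.SpecialLinearGroup (Fin 3) (ZMod p)).1 2 j := by
      intro j
      show (A.1 * A⁻¹.1) 2 j = _
      simp [Matrix.mul_apply, Fin.sum_univ_three, a0, a1, a2]
    rw [mul_inv_cancel] at h
    refine ⟨?_, ?_, ?_⟩ <;> [have := h 0; have := h 1; have := h 2] <;> simpa using this.symm

theorem qd_eq_affine : Cfsg.qd p = affine p :=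
  le_antisymm ((Subgroup.closure_le _).2 fun _ h => h) fun _ h => Subgroup.subset_closure h

theorem det_affine (a b c d x y : ZMod p) :
    (!![a, b, x; c, d, y; 0, 0, 1] : Matrix (Fin 3) (Fin 3) (ZMod p)).det = a * d - b * c := by
  rw [Matrix.det_fin_three]; simp

/-- The affine map with linear part `!![a, b; c, d]` and translation `(x, y)`. -/
def mk (a b c d x y : ZMod p) (h : a * d - b * c = 1) : ↥(Cfsg.qd p) :=
  ⟨⟨!![a, b, x; c, d, y; 0, 0, 1], (det_affine a b c d x y).trans h⟩,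
    Subgroup.subset_closure ⟨by simp, by simp, by simp⟩⟩

theorem exists_eq_mk (g : ↥(Cfsg.qd p)) : ∃ a b c d x y h, g = mk a b c d x y h := by
  obtain ⟨h0, h1, h2⟩ : g.1 ∈ affine p := qd_eq_affine (p := p) ▸ g.2
  set M := (g.1 : Matrix (Fin 3) (Fin 3) (ZMod p)) with hM
  have hMeq : M = !![M 0 0, M 0 1, M 0 2; M 1 0, M 1 1, M 1 2; 0, 0, 1] := by
    ext i j; fin_cases i <;> fin_cases j <;> simp [h0, h1, h2]
  refine ⟨M 0 0, M 0 1, M 1 0, M 1 1, M 0 2, M 1 2, ?_, ?_⟩
  · rw [← det_affine (x := M 0 2) (y := M 1 2), ← hMeq]; exact g.1.2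
  · exact Subtype.ext (Subtype.ext hMeq)

theorem mk_inj {a b c d x y a' b' c' d' x' y' : ZMod p} {h h'} :
    mk a b c d x y h = mk a' b' c' d' x' y' h' ↔
      a = a' ∧ b = b' ∧ c = c' ∧ d = d' ∧ x = x' ∧ y = y' := by
  constructor
  · intro e
    have e' : (!![a, b, x; c, d, y; 0, 0, 1] : Matrix (Fin 3) (Fin 3) (ZMod p)) =
        !![a', b', x'; c', d', y'; 0, 0, 1] := congrArg (fun g : ↥(Cfsg.qd p) => g.1.1) e
    exact ⟨congrFun (congrFun e' 0) 0, congrFun (congrFun e' 0) 1, congrFun (congrFun e' 1) 0,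
      congrFun (congrFun e' 1) 1, congrFun (congrFun e' 0) 2, congrFun (congrFun e' 1) 2⟩
  · rintro ⟨rfl, rfl, rfl, rfl, rfl, rfl⟩; rfl

theorem mk_eq {a b c d x y a' b' c' d' x' y' : ZMod p} {h h'} (ha : a = a') (hb : b = b')
    (hc : c = c') (hd : d = d') (hx : x = x') (hy : y = y') :
    mk a b c d x y h = mk a' b' c' d' x' y' h' := mk_inj.2 ⟨ha, hb, hc, hd, hx, hy⟩

theorem mk_mul {a b c d x y a' b' c' d' x' y' : ZMod p} {h h'} :
    mk a b c d x y h * mk a' b' c' d' x' y' h' =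
      mk (a * a' + b * c') (a * b' + b * d') (c * a' + d * c') (c * b' + d * d')
        (a * x' + b * y' + x) (c * x' + d * y' + y)
        (by linear_combination (a' * d' - b' * c') * h + h') := by
  refine Subtype.ext (Subtype.ext ?_)
  show (!![a, b, x; c, d, y; 0, 0, 1] : Matrix (Fin 3) (Fin 3) (ZMod p)) *
      !![a', b', x'; c', d', y'; 0, 0, 1] = _
  ext i j
  fin_cases i <;> fin_cases j <;> simp [mk, Matrix.mul_apply, Fin.sum_univ_three]

theorem mk_one : mk (p := p) 1 0 0 1 0 0 (by simp) = 1 := by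
  refine Subtype.ext (Subtype.ext ?_)
  show (!![1, 0, 0; 0, 1, 0; 0, 0, 1] : Matrix (Fin 3) (Fin 3) (ZMod p)) = 1
  exact Matrix.one_fin_three.symm

/-- The translation by `(x, y)`. -/
def tra (x y : ZMod p) : ↥(Cfsg.qd p) := mk 1 0 0 1 x y (by simp)

/-- The central involution of the linear part. -/
def tau : ↥(Cfsg.qd p) := mk (-1) 0 0 (-1) 0 0 (by simp)

/-- Upper unitriangular linear map. -/
def up (s : ZMod p) : ↥(Cfsg.qd p) := mk 1 s 0 1 0 0 (by simp)

/-- Lower unitriangular linear map. -/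
def lo (s : ZMod p) : ↥(Cfsg.qd p) := mk 1 0 s 1 0 0 (by simp)

theorem tra_zero : tra (p := p) 0 0 = 1 := mk_one

theorem tra_mul (x y x' y' : ZMod p) : tra x y * tra x' y' = tra (x + x') (y + y') := by
  simp only [tra, mk_mul]
  exact mk_eq (by ring) (by ring) (by ring) (by ring) (by ring) (by ring)

theorem tra_pow (x y : ZMod p) (n : ℕ) : tra x y ^ n = tra ((n : ZMod p) * x) ((n : ZMod p) * y) := by
  induction n with
  | zero => simp [tra_zero]
  | succ n ih => rw [pow_succ, ih, tra_mul]; push_cast; congr 1 <;> ring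

theorem up_mul (s t : ZMod p) : up s * up t = up (s + t) := by
  simp only [up, mk_mul]
  exact mk_eq (by ring) (by ring) (by ring) (by ring) (by ring) (by ring)

theorem lo_mul (s t : ZMod p) : lo s * lo t = lo (s + t) := by
  simp only [lo, mk_mul]
  exact mk_eq (by ring) (by ring) (by ring) (by ring) (by ring) (by ring)

theorem tra_inv (x y : ZMod p) : (tra x y)⁻¹ = tra (-x) (-y) :=
  inv_eq_of_mul_eq_one_right (by rw [tra_mul]; simp [tra_zero])

theorem up_inv (s : ZMod p) : (up s)⁻¹ = up (-s) :=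
  inv_eq_of_mul_eq_one_right (by rw [up_mul, add_neg_cancel]; exact mk_one)

theorem lo_inv (s : ZMod p) : (lo s)⁻¹ = lo (-s) :=
  inv_eq_of_mul_eq_one_right (by rw [lo_mul, add_neg_cancel]; exact mk_one)

theorem conj_tra {a b c d x y : ZMod p} {h} (u v : ZMod p) :
    mk a b c d x y h * tra u v * (mk a b c d x y h)⁻¹ = tra (a * u + b * v) (c * u + d * v) := by
  rw [mul_inv_eq_iff_eq_mul]
  simp only [tra, mk_mul]
  exact mk_eq (by ring) (by ring) (by ring) (by ring) (by ring) (by ring)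

theorem up_conj_tra (s u v : ZMod p) : up s * tra u v * (up s)⁻¹ = tra (u + s * v) v := by
  rw [up, conj_tra]; congr 1 <;> ring

theorem lo_conj_tra (s u v : ZMod p) : lo s * tra u v * (lo s)⁻¹ = tra u (s * u + v) := by
  rw [lo, conj_tra]; congr 1 <;> ring

theorem tau_mul_self : tau (p := p) * tau = 1 := by
  rw [← mk_one]
  simp only [tau, mk_mul]
  exact mk_eq (by ring) (by ring) (by ring) (by ring) (by ring) (by ring)

theorem tau_conj_tra (u v : ZMod p) : tau * tra u v * tau⁻¹ = tra (-u) (-v) := by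
  rw [tau, conj_tra]; congr 1 <;> ring

theorem commute_tau_linear {a b c d : ZMod p} {h} :
    Commute tau (mk a b c d 0 0 h) := by
  show tau * _ = _ * tau
  simp only [tau, mk_mul]
  exact mk_eq (by ring) (by ring) (by ring) (by ring) (by ring) (by ring)

/-- The translation subgroup. -/
def translations (p : ℕ) : Subgroup ↥(Cfsg.qd p) where
  carrier := {g | ∃ x y, g = tra x y}
  mul_mem' := by rintro _ _ ⟨x, y, rfl⟩ ⟨x', y', rfl⟩; exact ⟨_, _, tra_mul x y x' y'⟩
  one_mem' := ⟨0, 0, tra_zero.symm⟩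
  inv_mem' := by rintro _ ⟨x, y, rfl⟩; exact ⟨_, _, tra_inv x y⟩

theorem mem_translations {g : ↥(Cfsg.qd p)} : g ∈ translations p ↔ ∃ x y, g = tra x y := Iff.rfl

theorem tra_mem (x y : ZMod p) : tra x y ∈ translations p := ⟨x, y, rfl⟩

theorem translations_normal : (translations p).Normal := by
  refine ⟨?_⟩
  rintro _ ⟨u, v, rfl⟩ g
  obtain ⟨a, b, c, d, x, y, h, rfl⟩ := exists_eq_mk g
  rw [conj_tra]
  exact tra_mem _ _

theorem translations_pow {g : ↥(Cfsg.qd p)} (hg : g ∈ translations p) : g ^ p = 1 := by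
  obtain ⟨x, y, rfl⟩ := hg
  rw [tra_pow, ZMod.natCast_self, zero_mul, zero_mul, tra_zero]

theorem translations_comm {g g' : ↥(Cfsg.qd p)} (hg : g ∈ translations p)
    (hg' : g' ∈ translations p) : Commute g g' := by
  obtain ⟨x, y, rfl⟩ := hg
  obtain ⟨x', y', rfl⟩ := hg'
  show _ * _ = _ * _
  rw [tra_mul, tra_mul, add_comm x, add_comm y]

theorem card_translations (p : ℕ) [NeZero p] : Nat.card ↥(translations p) = p * p := by
  have e : ZMod p × ZMod p ≃ ↥(translations p) :=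
    Equiv.ofBijective (fun q => ⟨tra q.1 q.2, tra_mem _ _⟩)
      ⟨fun q r hqr => by
        have h := congrArg Subtype.val hqr
        simp only [tra, mk_inj] at h
        exact Prod.ext h.2.2.2.2.1 h.2.2.2.2.2,
      fun ⟨g, x, y, hg⟩ => ⟨(x, y), Subtype.ext hg.symm⟩⟩
  rw [← Nat.card_congr e, Nat.card_prod, Nat.card_zmod]

theorem two_ne_zero' (hp : 2 < p) : (2 : ZMod p) ≠ 0 := by
  intro h
  have : ((2 : ℕ) : ZMod p) = 0 := by simpa using h
  rw [ZMod.natCast_eq_zero_iff] at this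
  have := Nat.le_of_dvd two_pos this
  omega

variable [Fact p.Prime]

theorem eq_linear_of_commute_tau (hp : 2 < p) {a b c d x y : ZMod p} {h}
    (hc : Commute tau (mk a b c d x y h)) : x = 0 ∧ y = 0 := by
  have e : tau * mk a b c d x y h = mk a b c d x y h * tau := hc
  simp only [tau, mk_mul, mk_inj] at e
  obtain ⟨-, -, -, -, hx, hy⟩ := e
  constructor
  · refine (mul_eq_zero.1 (?_ : (2 : ZMod p) * x = 0)).resolve_left (two_ne_zero' hp)
    linear_combination -hx
  · refine (mul_eq_zero.1 (?_ : (2 : ZMod p) * y = 0)).resolve_left (two_ne_zero' hp)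
    linear_combination -hy

/-- The linear part, as the centralizer of `tau`. -/
def linear (p : ℕ) : Subgroup ↥(Cfsg.qd p) := Subgroup.centralizer {tau}

omit [Fact p.Prime] in
theorem mem_linear {g : ↥(Cfsg.qd p)} : g ∈ linear p ↔ Commute tau g := by
  rw [linear, Subgroup.mem_centralizer_singleton_iff]
  exact ⟨fun h => h.symm, fun h => h.eq.symm⟩

/-- Diagonal elements. -/
def dia (t : (ZMod p)ˣ) : ↥(Cfsg.qd p) := mk (t : ZMod p) 0 0 ((t⁻¹ : (ZMod p)ˣ) : ZMod p) 0 0
  (by rw [mul_zero, sub_zero, Units.mul_inv])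

theorem dia_conj_up (t : (ZMod p)ˣ) (u : ZMod p) :
    dia t * up u * (dia t)⁻¹ = up ((t : ZMod p) * (t : ZMod p) * u) := by
  rw [mul_inv_eq_iff_eq_mul]
  simp only [dia, up, mk_mul]
  have ht : (t : ZMod p) * ((t⁻¹ : (ZMod p)ˣ) : ZMod p) = 1 := Units.mul_inv t
  exact mk_eq (by ring) (by linear_combination (-((t : ZMod p) * u)) * ht) (by ring) (by ring)
    (by ring) (by ring)

theorem dia_conj_lo (t : (ZMod p)ˣ) (u : ZMod p) :
    dia t * lo u * (dia t)⁻¹ =
      lo (((t⁻¹ : (ZMod p)ˣ) : ZMod p) * ((t⁻¹ : (ZMod p)ˣ) : ZMod p) * u) := by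
  rw [mul_inv_eq_iff_eq_mul]
  simp only [dia, lo, mk_mul]
  have ht : (t : ZMod p) * ((t⁻¹ : (ZMod p)ˣ) : ZMod p) = 1 := Units.mul_inv t
  exact mk_eq (by ring) (by ring)
    (by linear_combination (-(((t⁻¹ : (ZMod p)ˣ) : ZMod p) * u)) * ht) (by ring) (by ring) (by ring)

theorem linear_mem_derived (hp : 3 < p) :
    (∀ s, up s ∈ ⁅linear p, linear p⁆) ∧ (∀ t : (ZMod p)ˣ, dia t ∈ ⁅linear p, linear p⁆) := by
  haveI : NeZero p := ⟨by omega⟩
  have h2 : (2 : ZMod p) ≠ 0 := two_ne_zero' (by omega)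
  have h3 : (3 : ZMod p) ≠ 0 := by
    intro h
    have h3' : ((3 : ℕ) : ZMod p) = 0 := by exact_mod_cast h
    rw [ZMod.natCast_eq_zero_iff] at h3'
    have := Nat.le_of_dvd (by norm_num) h3'
    omega
  obtain ⟨k, hk⟩ : ∃ k : ZMod p, 3 * k = 1 := ⟨3⁻¹, mul_inv_cancel₀ h3⟩
  obtain ⟨w, hw⟩ : ∃ w : (ZMod p)ˣ, (w : ZMod p) = 2 := ⟨Units.mk0 2 h2, rfl⟩
  have hmem : ∀ {a b c d : ZMod p} {h}, mk a b c d 0 0 h ∈ linear p :=
    mem_linear.2 commute_tau_linear
  have hup : ∀ s, up s ∈ ⁅linear p, linear p⁆ := by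
    intro s
    have he : ⁅dia w, up (s * k)⁆ = up s := by
      rw [commutatorElement_def, dia_conj_up, up_inv, up_mul, hw]
      congr 1
      linear_combination s * hk
    rw [← he]
    exact Subgroup.commutator_mem_commutator hmem hmem
  have hlo : ∀ s, lo s ∈ ⁅linear p, linear p⁆ := by
    intro s
    have he : ⁅dia w⁻¹, lo (s * k)⁆ = lo s := by
      rw [commutatorElement_def, dia_conj_lo, lo_inv, lo_mul, inv_inv, hw]
      congr 1
      linear_combination s * hk
    rw [← he]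
    exact Subgroup.commutator_mem_commutator hmem hmem
  refine ⟨hup, fun t => ?_⟩
  set ti : ZMod p := ((t⁻¹ : (ZMod p)ˣ) : ZMod p) with hti
  have ht : (t : ZMod p) * ti = 1 := Units.mul_inv t
  have hw1 : up (t : ZMod p) * lo (-ti) * up (t : ZMod p) =
      mk 0 (t : ZMod p) (-ti) 0 0 0 (by linear_combination ht) := by
    simp only [up, lo, mk_mul]
    exact mk_eq (by linear_combination (-1 : ZMod p) * ht)
      (by linear_combination (-(t : ZMod p)) * ht) (by ring)
      (by linear_combination (-1 : ZMod p) * ht) (by ring) (by ring)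
  have hw2 : up (-1 : ZMod p) * lo 1 * up (-1) = mk (p := p) 0 (-1) 1 0 0 0 (by ring) := by
    simp only [up, lo, mk_mul]
    exact mk_eq (by ring) (by ring) (by ring) (by ring) (by ring) (by ring)
  have he : dia t = (up (t : ZMod p) * lo (-ti) * up (t : ZMod p)) *
      (up (-1) * lo 1 * up (-1)) := by
    rw [hw1, hw2]
    simp only [dia, mk_mul]
    exact mk_eq (by ring) (by ring) (by ring) (by rw [hti]; ring) (by ring) (by ring)
  rw [he]
  exact mul_mem (mul_mem (mul_mem (hup _) (hlo _)) (hup _))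
    (mul_mem (mul_mem (hup _) (hlo _)) (hup _))

theorem translations_le_of_invariant {N : Subgroup ↥(Cfsg.qd p)} (hN : N ≤ translations p)
    (hne : N ≠ ⊥) (hup : ∀ g ∈ N, up 1 * g * (up 1)⁻¹ ∈ N)
    (hlo : ∀ g ∈ N, lo 1 * g * (lo 1)⁻¹ ∈ N) : translations p ≤ N := by
  haveI : NeZero p := ⟨(Fact.out : p.Prime).ne_zero⟩
  have hfst : ∀ v : ZMod p, v ≠ 0 → tra v 0 ∈ N → ∀ r, tra r 0 ∈ N := by
    intro v hv hvN r
    have := N.pow_mem hvN (r / v).val
    rw [tra_pow, ZMod.natCast_zmod_val, mul_zero, div_mul_cancel₀ r hv] at this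
    exact this
  obtain ⟨g, hg, hg1⟩ := N.ne_bot_iff_exists_ne_one.1 hne |>.elim fun a ha =>
    (⟨a.1, a.2, fun h => ha (Subtype.ext h)⟩ : ∃ g ∈ N, g ≠ 1)
  obtain ⟨u, v, rfl⟩ := hN hg
  obtain ⟨v', hv', hv'N⟩ : ∃ v', v' ≠ 0 ∧ tra v' 0 ∈ N := by
    by_cases hv : v = 0
    · subst hv
      exact ⟨u, fun h => hg1 (by rw [h, tra_zero]), hg⟩
    · refine ⟨v, hv, ?_⟩
      have := N.mul_mem (hup _ hg) (N.inv_mem hg)
      rw [up_conj_tra, tra_inv, tra_mul] at this
      simpa using this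
  have hall := hfst v' hv' hv'N
  rintro _ ⟨r, s, rfl⟩
  have h1 := N.mul_mem (hlo _ (hall s)) (N.inv_mem (hall s))
  rw [lo_conj_tra, tra_inv, tra_mul] at h1
  simp only [one_mul, add_zero, neg_zero, add_neg_cancel] at h1
  have := N.mul_mem (hall r) h1
  rwa [tra_mul, add_zero, zero_add] at this

end CfsgLib.Qd
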