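import Cfsg.Agent.Lib.Qd.Basic
import Cfsg.Agent.Lib.LocalEven.Involves
import Mathlib.GroupTheory.Sylow

/-!
`Qd p` is not involved in a group in which every non-trivial `p`-element lies in only one Sylow
`p`-subgroup.
-/

set_option autoImplicit false
set_option linter.style.haveILetI false

namespace CfsgLib.Qd

open Subgroup Cfsg

variable {p : ℕ} [Fact p.Prime]

/-- An element of `p`-power order normalising a Sylow subgroup lies in it. -/
theorem mem_of_mem_normalizer_sylow {G : Type*} [Group G] (P : Sylow p G) {g : G}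
    (hg : g ∈ normalizer ((P : Subgroup G) : Set G)) {k : ℕ} (hk : g ^ p ^ k = 1) :
    g ∈ (P : Subgroup G) := by
  have hz : IsPGroup p (zpowers g) := by
    rintro ⟨x, hx⟩
    obtain ⟨i, rfl⟩ := mem_zpowers_iff.1 hx
    refine ⟨k, Subtype.ext ?_⟩
    rw [SubmonoidClass.coe_pow, OneMemClass.coe_one, ← zpow_natCast, ← zpow_mul, mul_comm, zpow_mul,
      zpow_natCast, hk, one_zpow]
  have hsup : IsPGroup p (zpowers g ⊔ (P : Subgroup G) : Subgroup G) :=
    hz.to_sup_of_normal_right' P.2 (zpowers_le.2 hg)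
  have := P.3 hsup le_sup_right
  rw [← this]
  exact mem_sup_left (mem_zpowers g)

/-- No `p`-subgroup of `Qd p` contains all its `p`-elements, for odd `p`. -/
theorem tau_not_mem (hp : p ≠ 2) {B : Subgroup ↥(Cfsg.qd p)} (hB : IsPGroup p B) :
    ¬ (up 1 ∈ B ∧ lo (-1 : ZMod p) ∈ B) := by
  rintro ⟨h1, h2⟩
  have hpr : p.Prime := Fact.out
  have hw : up 1 * lo (-1 : ZMod p) * up 1 * (up 1 * lo (-1 : ZMod p) * up 1) = tau := by
    simp only [up, lo, tau, mk_mul]
    exact mk_eq (by ring) (by ring) (by ring) (by ring) (by ring) (by ring)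
  have hm : tau (p := p) ∈ B := by
    rw [← hw]
    exact mul_mem (mul_mem (mul_mem h1 h2) h1) (mul_mem (mul_mem h1 h2) h1)
  obtain ⟨k, hk⟩ := hB ⟨tau, hm⟩
  have hk' : tau (p := p) ^ p ^ k = 1 := congrArg Subtype.val hk
  obtain ⟨m, hm'⟩ : Odd (p ^ k) := (hpr.odd_of_ne_two hp).pow
  rw [hm', pow_succ, pow_mul, sq, tau_mul_self, one_pow, one_mul] at hk'
  rw [tau, ← mk_one, mk_inj] at hk'
  have h2p : (2 : ZMod p) ≠ 0 := two_ne_zero' (lt_of_le_of_ne hpr.two_le (Ne.symm hp))
  exact h2p (by linear_combination -hk'.1)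

/-- If every non-trivial element lies in at most one Sylow `p`-subgroup, then `Qd p` is not
involved. -/
theorem not_involves_of_unique_sylow {G : Type*} [Group G] [Finite G] (hp : p ≠ 2)
    (hu : ∀ (P Q : Sylow p G) (x : G), x ∈ (P : Subgroup G) → x ∈ (Q : Subgroup G) → x ≠ 1 → P = Q) :
    ¬ Cfsg.Involves ↥(Cfsg.qd p) G := by
  intro hinv
  obtain ⟨K, f, hf⟩ := CfsgLib.LocalEven.exists_surjective_of_involves hinv
  haveI := translations_normal (p := p)
  haveI : NeZero p := ⟨(Fact.out : p.Prime).ne_zero⟩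
  set M : Subgroup K := (translations p).comap f with hM
  let fM : M →* translations p := f.subgroupComap _
  have hfM : Function.Surjective fM := f.subgroupComap_surjective_of_surjective _ hf
  obtain ⟨W⟩ := (inferInstance : Nonempty (Sylow p M))
  have hWtop : ((W.mapSurjective hfM : Sylow p (translations p)) : Subgroup (translations p)) = ⊤ := by
    have hV : IsPGroup p (translations p) := fun a => ⟨1, Subtype.ext (by
      rw [pow_one]; exact translations_pow a.2)⟩
    exact ((W.mapSurjective hfM).3 (hV.to_subgroup ⊤) le_top).symm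
  set W' : Subgroup K := (W : Subgroup M).map M.subtype with hW'
  have hVW : ∀ v ∈ translations p, ∃ w ∈ W', f w = v := by
    intro v hv
    have : (⟨v, hv⟩ : translations p) ∈
        ((W.mapSurjective hfM : Sylow p (translations p)) : Subgroup (translations p)) := by
      rw [hWtop]; trivial
    obtain ⟨w, hw, hwv⟩ := this
    exact ⟨w.1, ⟨w, hw, rfl⟩, congrArg Subtype.val hwv⟩
  obtain ⟨w, hwW, hwv⟩ := hVW (tra 1 0) (tra_mem _ _)
  have hw1 : w ≠ 1 := by
    rintro rfl
    rw [map_one, ← tra_zero, tra, tra, mk_inj] at hwv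
    exact one_ne_zero hwv.2.2.2.2.1.symm
  obtain ⟨P, hP⟩ := (IsPGroup.map (W.2.map M.subtype) K.subtype).exists_le_sylow
  set N : Subgroup K := normalizer (W' : Set K) with hN
  -- the normaliser of `W'` normalises `P`
  have hNP : ∀ g ∈ N, (g : G) ∈ normalizer ((P : Subgroup G) : Set G) := by
    intro g hg
    refine Sylow.smul_eq_iff_mem_normalizer.1 ?_
    have hgi : g⁻¹ * w * g ∈ W' := by
      have := (mem_normalizer_iff'.1 hg (g⁻¹ * w)).2 (by simpa using hwW)
      exact this
    refine hu _ P (w : G) ?_ (hP ⟨w, hwW, rfl⟩) (fun h => hw1 (Subtype.ext h))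
    rw [Sylow.coe_subgroup_smul, mem_pointwise_smul_iff_inv_smul_mem]
    simp only [MulAut.smul_def, map_inv, MulAut.conj_inv_apply]
    exact hP ⟨g⁻¹ * w * g, hgi, by simp⟩
  -- the normaliser maps onto `Qd p`
  have hNf : N.map f = ⊤ := by
    have hF : N ⊔ M = ⊤ := Sylow.normalizer_sup_eq_top W
    rw [eq_top_iff]
    intro v _
    obtain ⟨k, rfl⟩ := hf v
    have hk : k ∈ N ⊔ M := by rw [hF]; trivial
    obtain ⟨a, ha, b, hb, rfl⟩ := mem_sup_of_normal_right.1 hk
    obtain ⟨w', hw', hw'v⟩ := hVW (f b) hb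
    rw [map_mul, ← hw'v]
    exact mul_mem (mem_map_of_mem f ha) (mem_map_of_mem f (le_normalizer hw'))
  let fN : N →* ↥(Cfsg.qd p) := f.comp N.subtype
  have hfN : Function.Surjective fN := fun v => by
    obtain ⟨k, hk, rfl⟩ := (hNf ▸ mem_top v : v ∈ N.map f)
    exact ⟨⟨k, hk⟩, rfl⟩
  let ι : N →* G := K.subtype.comp N.subtype
  have hι : Function.Injective ι := Subtype.val_injective.comp Subtype.val_injective
  set A : Subgroup N := (P : Subgroup G).comap ι with hA
  have hAp : IsPGroup p A := P.2.comap_of_injective ι hι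
  have hall : ∀ v : ↥(Cfsg.qd p), (∃ k : ℕ, v ^ p ^ k = 1) → v ∈ A.map fN := by
    rintro v ⟨k, hk⟩
    have hz : IsPGroup p (zpowers v) := by
      rintro ⟨x, hx⟩
      obtain ⟨i, rfl⟩ := mem_zpowers_iff.1 hx
      refine ⟨k, Subtype.ext ?_⟩
      rw [SubmonoidClass.coe_pow, OneMemClass.coe_one, ← zpow_natCast, ← zpow_mul, mul_comm,
        zpow_mul, zpow_natCast, hk, one_zpow]
    obtain ⟨T, hT⟩ := hz.exists_le_sylow
    obtain ⟨S, hS⟩ := Sylow.mapSurjective_surjective hfN p T
    have hv : v ∈ (S.mapSurjective hfN : Subgroup ↥(Cfsg.qd p)) := by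
      rw [hS]; exact hT (mem_zpowers v)
    obtain ⟨s, hs, rfl⟩ := hv
    obtain ⟨j, hj⟩ := S.2 ⟨s, hs⟩
    refine ⟨s, ?_, rfl⟩
    exact mem_of_mem_normalizer_sylow P (hNP s.1 s.2) (k := j)
      (by simpa using congrArg ι (congrArg Subtype.val hj))
  have hmul : ∀ s : ZMod p, up s ^ p = 1 ∧ lo s ^ p = 1 := by
    intro s
    have h1 : ∀ n : ℕ, up s ^ n = up ((n : ZMod p) * s) ∧ lo s ^ n = lo ((n : ZMod p) * s) := by
      intro n
      induction n with
      | zero => simp only [pow_zero, Nat.cast_zero, zero_mul]; exact ⟨mk_one.symm, mk_one.symm⟩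
      | succ n ih =>
        rw [pow_succ, pow_succ, ih.1, ih.2, up_mul, lo_mul]
        push_cast
        constructor <;> congr 1 <;> ring
    rw [(h1 p).1, (h1 p).2, ZMod.natCast_self, zero_mul]
    exact ⟨mk_one, mk_one⟩
  exact tau_not_mem hp (hAp.map fN)
    ⟨hall _ ⟨1, by rw [pow_one]; exact (hmul 1).1⟩, hall _ ⟨1, by rw [pow_one]; exact (hmul _).2⟩⟩

end CfsgLib.Qd
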